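import Cfsg.Agent.H321.Dl.PslMany
import Cfsg.Agent.H755.Dl.Lin

/-!
# The row of S4769 for `PSL_n(q)`, `n ≥ 3`, `p ∤ q` (helper321)

`row_of_dl` : from the bound `log_p (n / e) + 1` for the derived length.
`row_psl_ne` : the row.
-/

set_option autoImplicit false

open Cfsg Matrix

namespace Cfsg.Agent.H321.Dl.PslRow

open Cfsg.Agent.H113.PSL Facts Main
open Cfsg.Agent.H246.Dl Cfsg.Agent.H321.Dl.PslMany

universe u

/-- `log_p N < (N + 1) / 2` for `N ≥ 5` -/
theorem log_le {p N : ℕ} (hp : 2 ≤ p) (hN : 5 ≤ N) : Nat.log p N + 1 ≤ (N + 1) / 2 := by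
  have h1 : Nat.log p N ≤ Nat.log 2 N := Nat.log_anti_left (by norm_num) hp
  have h2 : Nat.log 2 N < (N + 1) / 2 := by
    apply Nat.log_lt_of_lt_pow (by omega)
    obtain ⟨k, hk⟩ : ∃ k, (N + 1) / 2 = k + 3 := ⟨(N + 1) / 2 - 3, by omega⟩
    have h3 : N ≤ 2 * (k + 3) := by omega
    rw [hk]
    refine lt_of_le_of_lt h3 ?_
    clear * -
    induction k with
    | zero => norm_num
    | succ k ih =>
      have h4 : 2 ^ (k + 1 + 3) = 2 * 2 ^ (k + 3) := by ring
      rw [h4]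
      have h5 : 2 ≤ 2 ^ (k + 3) := by
        calc 2 ≤ 2 ^ 3 := by norm_num
          _ ≤ _ := Nat.pow_le_pow_right (by norm_num) (by omega)
      omega
  omega

variable {F : Type u} [Field F] [Fintype F]

local notation "𝔮" => Fintype.card F

/-- **The row `PSL_n(q)`, `n ≥ 3`, `p ∤ q`.** -/
theorem row_of_dl {n p : ℕ} (hn : 3 ≤ n) (hp : p.Prime) (hd : p ∣ Nat.card (ProjectiveSpecialLinearGroup (Fin n) F))
    (hq : ¬ p ∣ 𝔮) (hlin : ∀ e : ℕ, 0 < e → (∀ k, 0 < k → p ∣ 𝔮 ^ k - 1 → e ≤ k) →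
      DlLe p (Nat.log p (n / e) + 1) (ProjectiveSpecialLinearGroup (Fin n) F)) :
    Row p (ProjectiveSpecialLinearGroup (Fin n) F) := by
  classical
  have hq1 := one_lt_q (F := F)
  have hp2 := hp.two_le
  -- some `k ≤ n` with `p ∣ q^k - 1`
  have hex : ∃ k, 0 < k ∧ p ∣ 𝔮 ^ k - 1 ∧ k ≤ n := by
    rcases cover hp hd with h | ⟨i, h1, h2, h3⟩ | h | ⟨i, h1, h2, h3⟩
    · exact absurd h hq
    · exact ⟨i, h1, h3, by omega⟩
    · exact ⟨n, by omega, h, le_rfl⟩
    · exact ⟨i, h1, h3, by omega⟩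
  obtain ⟨k0, hk0, hk0p, hk0n⟩ := hex
  have hex' : ∃ k, 0 < k ∧ p ∣ 𝔮 ^ k - 1 := ⟨k0, hk0, hk0p⟩
  set e := Nat.find hex' with he
  obtain ⟨he0, hep⟩ := Nat.find_spec hex'
  rw [← he] at he0 hep
  have hmin : ∀ k, 0 < k → p ∣ 𝔮 ^ k - 1 → e ≤ k := fun k h1 h2 => Nat.find_min' hex' ⟨h1, h2⟩
  have hen : e ≤ n := (hmin k0 hk0 hk0p).trans hk0n
  have hdl := hlin e he0 hmin
  by_cases h3A : n = 3 ∧ ¬ IsA F n p
  · -- here the Sylow subgroups are abelian
    obtain ⟨rfl, hA⟩ := h3A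
    have he3 : e = 3 := by
      by_contra hne
      exact hA ⟨e, he0, by omega, hep⟩
    have h1 : Nat.log p (3 / e) = 0 := by
      rw [he3]
      simp
    rw [h1, zero_add] at hdl
    exact Row.of_im hdl (im (F := F) le_rfl (fun m hm => hasCusp F m hm) hp hd)
  by_cases hlt : n / e < p ^ 2
  · -- derived length two
    have h1 : Nat.log p (n / e) < 2 := Nat.log_lt_of_lt_pow' (by norm_num) hlt
    refine Row.of_twoStrict (hdl.mono (by omega)) ?_
    exact H113.Two.PslGen.two_psl_gen hn hp hd hq fun hA h3 => absurd ⟨h3, hA⟩ h3A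
  · push Not at hlt
    have h4 : 4 ≤ p ^ 2 := by
      calc 4 = 2 ^ 2 := by norm_num
        _ ≤ _ := Nat.pow_le_pow_left hp2 2
    have h5 : 4 * e ≤ n := by
      have := (Nat.le_div_iff_mul_le he0).1 (h4.trans hlt)
      omega
    rcases Nat.lt_or_ge n 5 with hn5 | hn5
    · -- `n = 4`, `p = 2`
      have hn4 : n = 4 := by omega
      subst hn4
      have he1 : e = 1 := by omega
      rw [he1] at hlt hdl hep
      have hp2' : p = 2 := by
        by_contra hne
        have h6 : 3 ≤ p := by omega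
        have h7 : 3 ^ 2 ≤ p ^ 2 := Nat.pow_le_pow_left h6 2
        omega
      subst hp2'
      rw [pow_one] at hep
      refine Row.of_le hdl (many_psl_four hep) ?_
      have : Nat.log 2 (4 / 1) = 2 := by
        rw [Nat.div_one]
        exact Nat.log_pow (by norm_num) 2
      omega
    · refine Row.of_le hdl (many_psl hn5 he0 (by omega) (by omega) hep) ?_
      have h6 : Nat.log p (n / e) ≤ Nat.log p n := Nat.log_mono_right (Nat.div_le_self n e)
      have h7 := log_le hp2 hn5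
      omega

omit [Fintype F] in
theorem toGL_injective {n : ℕ} : Function.Injective (SpecialLinearGroup.toGL (n := Fin n) (R := F)) := by
  intro a b h
  have h1 := congrArg (fun x : GL (Fin n) F => (x : Matrix (Fin n) (Fin n) F)) h
  exact Subtype.ext h1

/-- **The row `PSL_n(q)`, `n ≥ 3`, `p ∤ q`.** -/
theorem row_psl {n p : ℕ} (hn : 3 ≤ n) (hp : p.Prime) (hd : p ∣ Nat.card (ProjectiveSpecialLinearGroup (Fin n) F))
    (hq : ¬ p ∣ 𝔮) : Row p (ProjectiveSpecialLinearGroup (Fin n) F) := by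
  classical
  have hfact : Fact p.Prime := ⟨hp⟩
  have hpF : (p : F) ≠ 0 := by
    intro h
    obtain ⟨r, hr⟩ := CharP.exists F
    have hpr : r.Prime := (CharP.char_is_prime_or_zero F r).resolve_right (CharP.char_ne_zero_of_finite F r)
    have : Fact r.Prime := ⟨hpr⟩
    have h1 : r ∣ p := (CharP.cast_eq_zero_iff F r p).1 h
    have h2 : r = p := (Nat.prime_dvd_prime_iff_eq hpr hp).1 h1
    subst h2
    obtain ⟨s, hs0, hs⟩ := FiniteField.card F r
    apply hq
    rw [hs]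
    exact dvd_pow_self _ s.ne_zero
  refine row_of_dl hn hp hd hq fun e he0 he => ?_
  exact H755.Dl.DlLe_ne_ord (G := SpecialLinearGroup (Fin n) F)
    (f := QuotientGroup.mk' (Subgroup.center (SpecialLinearGroup (Fin n) F))) (ρ := SpecialLinearGroup.toGL)
    hpF he0 (by rw [Nat.card_eq_fintype_card]; exact he) (QuotientGroup.mk'_surjective _) toGL_injective

/-- **The row `PSL_n(q)`, `n ≥ 3`, `p` not the characteristic**, up to isomorphism. -/
theorem row_psl_ne {S : Type*} [Group S] [Finite S] {n p : ℕ} (hn : 3 ≤ n)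
    (e : S ≃* ProjectiveSpecialLinearGroup (Fin n) F) (hp : p.Prime) (hd : p ∣ Nat.card S) (hq : ¬ p ∣ 𝔮) :
    Row p S := by
  have hfact : Fact p.Prime := ⟨hp⟩
  exact Row.of_equiv e (row_psl hn hp (by rwa [← Nat.card_congr e.toEquiv]) hq)

end Cfsg.Agent.H321.Dl.PslRow
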