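import Cfsg.Agent.H246.Dl.Defs
import Cfsg.Agent.H113.Two.Psl

/-!
# Many characters of `PSL_n(q)` of degree divisible by `p` (S4769, helper321)

`many_psl` : if `n ≥ 5` and `p ∣ q^e - 1`, `1 ≤ e ≤ n / 2`, then `PSL_n(q)` has at least `(n + 1) / 2` irreducible characters of
degree divisible by `p`, of pairwise different degrees.
`many_psl_four` : three of them for `n = 4`, `p = 2`, `q` odd.
-/

set_option autoImplicit false
set_option linter.unusedSectionVars false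
set_option linter.style.haveILetI false

open Cfsg Matrix

namespace Cfsg.Agent.H321.Dl.PslMany

open Cfsg.Agent.H53.HC Cfsg.Agent.Characters MulAction Module
open Cfsg.Agent.H113.PSL Para Pass Hyper Degrees Three Facts Main
open Cfsg.Agent.H113.Two.PslGen
open Cfsg.Agent.H246.Dl

universe u

variable {F : Type u} [Field F] [Fintype F]

local notation "𝔮" => Fintype.card F

/-- `∏_{0<i≤N} (q^i - 1)` -/
def fac (q N : ℕ) : ℕ := ∏ i ∈ Finset.range N, (q ^ (i + 1) - 1)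

theorem fac_succ (q N : ℕ) : fac q (N + 1) = fac q N * (q ^ (N + 1) - 1) := Finset.prod_range_succ _ _

theorem fac_pos {q : ℕ} (hq : 1 < q) (N : ℕ) : 0 < fac q N := by
  apply Finset.prod_pos
  intro i _
  have : 1 < q ^ (i + 1) := Nat.one_lt_pow (by omega) hq
  omega

/-- falling products -/
theorem fall_mul (q : ℕ) {N l : ℕ} (hl : l ≤ N) : (∏ j : Fin l, (q ^ (N - j.val) - 1)) * fac q (N - l) = fac q N := by
  rw [Fin.prod_univ_eq_prod_range (fun j => q ^ (N - j) - 1) l]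
  induction l with
  | zero => simp
  | succ l ih =>
    rw [Finset.prod_range_succ, ← ih (by omega)]
    obtain ⟨k, hk⟩ : ∃ k, N - l = k + 1 := ⟨N - l - 1, by omega⟩
    have h1 : N - (l + 1) = k := by omega
    rw [h1, hk, fac_succ]
    ring

theorem card_mul {n a : ℕ} (ha : a ≤ n) :
    Nat.card {W : Submodule F (Fin n → F) // finrank F W = a} * fac 𝔮 a * fac 𝔮 (n - a) = fac 𝔮 n := by
  have h1 := H950.card_subspaces_eq (F := F) (V := Fin n → F) (by rw [finrank_fin_fun]) ha rfl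
  have h2 := fall_mul 𝔮 (le_refl a)
  rw [Nat.sub_self] at h2
  have h3 : fac 𝔮 0 = 1 := rfl
  rw [h3, mul_one] at h2
  rw [h2] at h1
  rw [h1, fall_mul 𝔮 ha]

/-- divisibility by the prime divisors of `q^e - 1` -/
theorem dvd_of_fac {d t N e p : ℕ} {b : ℕ} (hb : 3 ≤ b) (ht : t ∣ 𝔮 - 1) (h : d * t = N * fac 𝔮 (b - 1)) (he : 1 ≤ e)
    (heb : e < b) (hp : p ∣ 𝔮 ^ e - 1) : p ∣ d := by
  have hq := one_lt_q (F := F)
  have h1 : fac 𝔮 (b - 1) = (𝔮 - 1) * ∏ i ∈ Finset.range (b - 2), (𝔮 ^ (i + 2) - 1) := by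
    obtain ⟨k, rfl⟩ : ∃ k, b = k + 2 := ⟨b - 2, by omega⟩
    change ∏ i ∈ Finset.range (k + 1), _ = _
    rw [Finset.prod_range_succ', mul_comm]
    simp
  have h2 : (∏ i ∈ Finset.range (b - 2), (𝔮 ^ (i + 2) - 1)) ∣ d := by
    have h3 : N * (∏ i ∈ Finset.range (b - 2), (𝔮 ^ (i + 2) - 1)) ∣ d := by
      refine dvd_of_mul_eq (c := 𝔮 - 1) (by omega) ht ?_
      rw [h, h1]
      ring
    exact (Dvd.intro_left _ rfl).trans h3
  refine dvd_trans ?_ h2
  by_cases he1 : e = 1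
  · subst he1
    refine (hp.trans ?_).trans (Finset.dvd_prod_of_mem (fun j => 𝔮 ^ (j + 2) - 1)
      (Finset.mem_range.2 (show 0 < b - 2 by omega)))
    rw [pow_one]
    exact sub_one_dvd _
  · refine hp.trans ?_
    have h3 := Finset.dvd_prod_of_mem (fun j => 𝔮 ^ (j + 2) - 1)
      (Finset.mem_range.2 (show e - 2 < b - 2 by omega))
    have h4 : e - 2 + 2 = e := by omega
    simp only [h4] at h3
    exact h3

/-- the character with the trivial character of `GL_(n-a)` -/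
theorem exists_deg {n a : ℕ} (hn : 5 ≤ n) (ha : n < 2 * a) (han : a < n) :
    ∃ (φ : IrrCharacter (ProjectiveSpecialLinearGroup (Fin n) F)) (t : ℕ), t ∣ 𝔮 - 1 ∧
      charDegree (φ : ProjectiveSpecialLinearGroup (Fin n) F → ℂ) * t * ((𝔮 ^ a - 1) * fac 𝔮 (n - a)) = fac 𝔮 n ∧
      ∀ p e : ℕ, 1 ≤ e → e < a → p ∣ 𝔮 ^ e - 1 →
        p ∣ charDegree (φ : ProjectiveSpecialLinearGroup (Fin n) F → ℂ) := by
  obtain ⟨φ, t, ht, hφ⟩ := exists_para (F := F) (n := n) (a := a) (b := n - a) (by omega) (by omega) (by omega)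
    (hasCusp F a (by omega)) (Core.isIrr_one (G := GL (Fin (n - a)) F)) (d := 1) (by simp) (fun c => rfl)
  have htq := ht.trans (Nat.gcd_dvd_right _ _)
  rw [mul_one] at hφ
  refine ⟨φ, t, htq, ?_, fun p e he hea hp => dvd_of_fac (b := a) (by omega) htq hφ he hea hp⟩
  rw [hφ, ← card_mul han.le]
  obtain ⟨k, rfl⟩ : ∃ k, a = k + 1 := ⟨a - 1, by omega⟩
  rw [fac_succ, Nat.add_sub_cancel]
  unfold fac
  ring

/-- the character with the Steinberg character of `GL_2` -/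
theorem exists_st {n : ℕ} (hn : 5 ≤ n) :
    ∃ (φ : IrrCharacter (ProjectiveSpecialLinearGroup (Fin n) F)),
      𝔮 ∣ charDegree (φ : ProjectiveSpecialLinearGroup (Fin n) F → ℂ) ∧
      ∀ p e : ℕ, 1 ≤ e → e < n - 2 → p ∣ 𝔮 ^ e - 1 →
        p ∣ charDegree (φ : ProjectiveSpecialLinearGroup (Fin n) F → ℂ) := by
  classical
  obtain ⟨φ, t, ht, hφ⟩ := exists_para (F := F) (n := n) (a := n - 2) (b := 2) (by omega) (by omega) (by omega)
    (hasCusp F (n - 2) (by omega)) (isIrr_st (F := F) 1) (d := 𝔮) (st_one 1) (fun c => by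
      rw [st_scalar, st_one]; simp)
  have htq := ht.trans (Nat.gcd_dvd_right _ _)
  refine ⟨φ, q_dvd htq hφ ⟨Nat.card {W : Submodule F (Fin n → F) // finrank F W = n - 2} *
          (∏ i ∈ Finset.range (n - 2 - 1), (𝔮 ^ (i + 1) - 1)), by ring⟩, fun p e he hea hp => ?_⟩
  refine dvd_of_fac (b := n - 2) (N := Nat.card {W : Submodule F (Fin n → F) // finrank F W = n - 2} * 𝔮)
    (by omega) htq ?_ he hea hp
  rw [hφ]
  unfold fac
  ring

/-- the degrees increase -/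
theorem deg_lt {n a d d' t t' : ℕ} (ha : 2 ≤ a) (han : a + 1 < n) (ht' : t' ∣ 𝔮 - 1)
    (h : d * t * ((𝔮 ^ a - 1) * fac 𝔮 (n - a)) = fac 𝔮 n)
    (h' : d' * t' * ((𝔮 ^ (a + 1) - 1) * fac 𝔮 (n - (a + 1))) = fac 𝔮 n) : d < d' := by
  have hq := one_lt_q (F := F)
  obtain ⟨k, rfl⟩ : ∃ k, n = a + 1 + (k + 1) := ⟨n - a - 2, by omega⟩
  have e1 : a + 1 + (k + 1) - a = (k + 1) + 1 := by omega
  have e2 : a + 1 + (k + 1) - (a + 1) = k + 1 := by omega
  rw [e1, fac_succ] at h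
  rw [e2, ← h] at h'
  have hf := fac_pos hq (k + 1)
  have hA : 1 < 𝔮 ^ a := Nat.one_lt_pow (by omega) hq
  have hk : 1 < 𝔮 ^ (k + 1 + 1) := Nat.one_lt_pow (by omega) hq
  have h3 : d' * t' * (𝔮 ^ (a + 1) - 1) = d * t * ((𝔮 ^ a - 1) * (𝔮 ^ (k + 1 + 1) - 1)) := by
    apply Nat.eq_of_mul_eq_mul_right hf
    linarith
  have hd : 0 < d * t := by
    rcases Nat.eq_zero_or_pos (d * t) with h0 | h0
    · rw [h0, zero_mul] at h
      have := fac_pos hq (a + 1 + (k + 1))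
      omega
    · exact h0
  have ht'q := Nat.le_of_dvd (by omega) ht'
  -- `(q - 1) (q^(a+1) - 1) < (q^a - 1) (q^(k+2) - 1)`
  have h4 : (𝔮 - 1) * (𝔮 ^ (a + 1) - 1) < (𝔮 ^ a - 1) * (𝔮 ^ (k + 1 + 1) - 1) := by
    have h5 : (𝔮 - 1) * (𝔮 + 1) ≤ 𝔮 ^ (k + 1 + 1) - 1 := by
      have h6 : 𝔮 ^ 2 ≤ 𝔮 ^ (k + 1 + 1) := Nat.pow_le_pow_right (by omega) (by omega)
      obtain ⟨x, hx⟩ : ∃ x, 𝔮 = x + 1 := ⟨𝔮 - 1, by omega⟩
      have h7 : (x + 1 - 1) * (x + 1 + 1) + 1 = (x + 1) ^ 2 := by rw [Nat.add_sub_cancel]; ring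
      rw [hx] at h6 ⊢
      omega
    have h8 : 𝔮 ^ (a + 1) - 1 < (𝔮 ^ a - 1) * (𝔮 + 1) := by
      have h9 : 𝔮 ^ 2 ≤ 𝔮 ^ a := Nat.pow_le_pow_right (by omega) ha
      have h10 : 𝔮 * 2 ≤ 𝔮 ^ 2 := by rw [pow_two]; exact Nat.mul_le_mul_left _ hq
      obtain ⟨y, hy⟩ : ∃ y, 𝔮 ^ a = y + 1 := ⟨𝔮 ^ a - 1, by omega⟩
      rw [pow_succ, hy, Nat.add_sub_cancel]
      have h11 : (y + 1) * 𝔮 = y * 𝔮 + 𝔮 := by ring
      have h12 : y * (𝔮 + 1) = y * 𝔮 + y := by ring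
      rw [h11, h12]
      omega
    calc (𝔮 - 1) * (𝔮 ^ (a + 1) - 1) < (𝔮 - 1) * ((𝔮 ^ a - 1) * (𝔮 + 1)) :=
          Nat.mul_lt_mul_of_pos_left h8 (by omega)
      _ = (𝔮 ^ a - 1) * ((𝔮 - 1) * (𝔮 + 1)) := by ring
      _ ≤ _ := Nat.mul_le_mul_left _ h5
  by_contra hcon
  push Not at hcon
  have ht0 : 1 ≤ t := by
    rcases Nat.eq_zero_or_pos t with h0 | h0
    · rw [h0, mul_zero] at hd; omega
    · exact h0
  have hd0 : 1 ≤ d := by
    rcases Nat.eq_zero_or_pos d with h0 | h0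
    · rw [h0, zero_mul] at hd; omega
    · exact h0
  have h13 : d' * t' * (𝔮 ^ (a + 1) - 1) ≤ d * ((𝔮 - 1) * (𝔮 ^ (a + 1) - 1)) := by
    calc d' * t' * (𝔮 ^ (a + 1) - 1) ≤ d * (𝔮 - 1) * (𝔮 ^ (a + 1) - 1) :=
          Nat.mul_le_mul_right _ (Nat.mul_le_mul hcon ht'q)
      _ = _ := by ring
  have h14 : d * ((𝔮 - 1) * (𝔮 ^ (a + 1) - 1)) < d * t * ((𝔮 ^ a - 1) * (𝔮 ^ (k + 1 + 1) - 1)) := by
    calc d * ((𝔮 - 1) * (𝔮 ^ (a + 1) - 1)) < d * ((𝔮 ^ a - 1) * (𝔮 ^ (k + 1 + 1) - 1)) :=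
          Nat.mul_lt_mul_of_pos_left h4 hd0
      _ = d * 1 * ((𝔮 ^ a - 1) * (𝔮 ^ (k + 1 + 1) - 1)) := by ring
      _ ≤ _ := Nat.mul_le_mul_right _ (Nat.mul_le_mul_left _ ht0)
  omega

/-- **Many characters of `PSL_n(q)`, `n ≥ 5`.** -/
theorem many_psl {n e p : ℕ} (hn : 5 ≤ n) (he : 1 ≤ e) (hen : e ≤ n / 2) (h3 : e < n - 2) (hp : p ∣ 𝔮 ^ e - 1) :
    Many p (ProjectiveSpecialLinearGroup (Fin n) F) ((n + 1) / 2) := by
  classical
  have hq := one_lt_q (F := F)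
  obtain ⟨ψ, hψ, hψd⟩ := exists_st (F := F) hn
  have hne : Nonempty (IrrCharacter (ProjectiveSpecialLinearGroup (Fin n) F)) := ⟨ψ⟩
  choose! φ t ht hφ hdv using fun (a : ℕ) (h : n < 2 * a ∧ a < n) => exists_deg (F := F) hn h.1 h.2
  have hmono : ∀ a b, n < 2 * a → a < b → b < n → charDegree (φ a : ProjectiveSpecialLinearGroup (Fin n) F → ℂ) <
      charDegree (φ b : ProjectiveSpecialLinearGroup (Fin n) F → ℂ) := by
    intro a b ha hab hb
    induction b with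
    | zero => omega
    | succ b ih =>
      have h1 : charDegree (φ b : ProjectiveSpecialLinearGroup (Fin n) F → ℂ) <
          charDegree (φ (b + 1) : ProjectiveSpecialLinearGroup (Fin n) F → ℂ) :=
        deg_lt (by omega) hb (ht (b + 1) ⟨by omega, hb⟩) (hφ b ⟨by omega, by omega⟩)
          (hφ (b + 1) ⟨by omega, hb⟩)
      rcases Nat.lt_or_ge a b with h2 | h2
      · exact (ih h2 (by omega)).trans h1
      · have : a = b := by omega
        subst this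
        exact h1
  let D : Finset ℕ := (Finset.Ico (n / 2 + 1) n).image fun a =>
    charDegree (φ a : ProjectiveSpecialLinearGroup (Fin n) F → ℂ)
  have hD : D.card = n - (n / 2 + 1) := by
    rw [Finset.card_image_of_injOn, Nat.card_Ico]
    intro a ha b hb hab
    rw [Finset.coe_Ico, Set.mem_Ico] at ha hb
    rcases lt_trichotomy a b with h | h | h
    · exact absurd hab (hmono a b (by omega) h hb.2).ne
    · exact h
    · exact absurd hab (hmono b a (by omega) h ha.2).ne'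
  have hnot : charDegree (ψ : ProjectiveSpecialLinearGroup (Fin n) F → ℂ) ∉ D := by
    intro h
    obtain ⟨a, ha, hab⟩ := Finset.mem_image.1 h
    rw [Finset.mem_Ico] at ha
    have h1 := hφ a ⟨by omega, ha.2⟩
    rw [mul_assoc] at h1
    exact ne_of_q (coprime_prod n) h1 hψ hab
  have hcard : (insert (charDegree (ψ : ProjectiveSpecialLinearGroup (Fin n) F → ℂ)) D).card = (n + 1) / 2 := by
    rw [Finset.card_insert_of_notMem hnot, hD]
    omega
  rw [← hcard]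
  apply Many.of_finset
  intro d hd
  have hone : ∀ χ : IrrCharacter (ProjectiveSpecialLinearGroup (Fin n) F),
      (χ : ProjectiveSpecialLinearGroup (Fin n) F → ℂ) 1 =
        (charDegree (χ : ProjectiveSpecialLinearGroup (Fin n) F → ℂ) : ℂ) := by
    intro χ
    obtain ⟨k, -, hk⟩ := Core.isIrr_apply_one χ.2
    have h1 := H670.PSing.charDegree_eq_of hk
    change charDegree (χ : ProjectiveSpecialLinearGroup (Fin n) F → ℂ) = k at h1
    rw [h1]
    exact hk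
  rcases Finset.mem_insert.1 hd with rfl | h
  · exact ⟨hψd p e he h3 hp, ψ, ψ.2, hone ψ⟩
  · obtain ⟨a, ha, rfl⟩ := Finset.mem_image.1 h
    rw [Finset.mem_Ico] at ha
    exact ⟨hdv a ⟨by omega, ha.2⟩ p e he (by omega) hp, φ a, (φ a).2, hone (φ a)⟩

/-- **Three characters of `PSL_4(q)` of even degree**, `q` odd. -/
theorem many_psl_four (h2 : 2 ∣ 𝔮 - 1) : Many 2 (ProjectiveSpecialLinearGroup (Fin 4) F) 3 := by
  classical
  have hq := one_lt_q (F := F)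
  obtain ⟨φ, t, ht, hφ, h1⟩ := exA' (n := 4) (by norm_num) (hasCusp F 4 (by norm_num))
  obtain ⟨ψ, t', ht', hψ, h2'⟩ := exB' (n := 4) (by norm_num) (hasCusp F (4 - 1) (by norm_num))
  obtain ⟨χ, s, hs, hχ⟩ := t7 (F := F) (hasCusp F 2 (by norm_num))
  have hsq := hs.trans (Nat.gcd_dvd_right _ _)
  have hφ2 := h1 2 ⟨1, le_rfl, by norm_num, by rwa [pow_one]⟩
  have hψ2 := h2' 2 Nat.prime_two (Or.inr ⟨1, le_rfl, by norm_num, by rwa [pow_one]⟩)
  have hχ2 : 2 ∣ charDegree (χ : ProjectiveSpecialLinearGroup (Fin 4) F → ℂ) := by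
    refine dvd_trans ?_ (dvd_of_mul_eq (c := 𝔮 - 1) (by omega) hsq hχ)
    apply Dvd.dvd.mul_left
    apply Dvd.dvd.mul_right
    obtain ⟨k, hk⟩ := h2
    have : 𝔮 = 2 * k + 1 := by omega
    rw [this]
    exact ⟨2 * k ^ 2 + 2 * k + 1, by ring⟩
  have hχq : 𝔮 ∣ charDegree (χ : ProjectiveSpecialLinearGroup (Fin 4) F → ℂ) :=
    q_dvd hsq hχ ⟨(𝔮 - 1) * ((𝔮 ^ 2 + 1) * (𝔮 ^ 2 + 𝔮 + 1)), by ring⟩
  have n1 : charDegree (φ : ProjectiveSpecialLinearGroup (Fin 4) F → ℂ) ≠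
      charDegree (ψ : ProjectiveSpecialLinearGroup (Fin 4) F → ℂ) := by
    intro h
    rw [← h] at hψ
    exact degrees_ne (by norm_num) ht ht' hφ hψ
  have n2 : charDegree (φ : ProjectiveSpecialLinearGroup (Fin 4) F → ℂ) ≠
      charDegree (χ : ProjectiveSpecialLinearGroup (Fin 4) F → ℂ) := ne_of_q (coprime_prod _) hφ hχq
  have n3 : charDegree (ψ : ProjectiveSpecialLinearGroup (Fin 4) F → ℂ) ≠
      charDegree (χ : ProjectiveSpecialLinearGroup (Fin 4) F → ℂ) := by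
    rw [mul_assoc] at hψ
    exact ne_of_q (Nat.Coprime.mul_right (coprime_pow_sub 4 (by norm_num)) (coprime_prod _)) hψ hχq
  refine Many.of_degrees (m := 3) ![φ, ψ, χ] ?_ ?_
  · intro i
    fin_cases i
    · exact hφ2
    · exact hψ2
    · exact hχ2
  · intro i j hij
    fin_cases i <;> fin_cases j
    · rfl
    · exact absurd hij n1
    · exact absurd hij n2
    · exact absurd hij n1.symm
    · rfl
    · exact absurd hij n3
    · exact absurd hij n2.symm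
    · exact absurd hij n3.symm
    · rfl

end Cfsg.Agent.H321.Dl.PslMany
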